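import Groth.Agent.InjFibre.Alg
import Groth.Agent.InjFibre.Loc
import Groth.Agent.FibDepth.PdOpen
import Groth.Agent.FlatSpread.Fp

/-!
# Flat cokernels from exactness on fibres
-/

set_option autoImplicit false
set_option linter.style.haveILetI false
universe u

open TensorProduct

namespace Groth.Agent.RelPerfFibres

/-- membership in `I N_q` -/
theorem mem_map_smul_iff {A : Type u} [CommRing A] (q : Ideal A) [q.IsPrime] {N : Type u} [AddCommGroup N]
    [Module A N] (I : Ideal A) (x : N) (s : q.primeCompl) :
    LocalizedModule.mk x s ∈ (I.map (algebraMap A (Localization.AtPrime q))) •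
      (⊤ : Submodule (Localization.AtPrime q) (LocalizedModule q.primeCompl N)) ↔
      ∃ t ∈ q.primeCompl, t • x ∈ I • (⊤ : Submodule A N) := by
  have hsr : ∀ z : LocalizedModule q.primeCompl N,
      z ∈ (I.map (algebraMap A (Localization.AtPrime q))) •
        (⊤ : Submodule (Localization.AtPrime q) (LocalizedModule q.primeCompl N)) ↔
      z ∈ I • (⊤ : Submodule A (LocalizedModule q.primeCompl N)) := fun z => by
    rw [← Submodule.restrictScalars_mem A, Submodule.restrictScalars_map_smul_eq, Submodule.restrictScalars_top]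
  rw [hsr]
  constructor
  · intro h
    have H : ∀ z ∈ I • (⊤ : Submodule A (LocalizedModule q.primeCompl N)),
        ∃ (y : N) (t : q.primeCompl), y ∈ I • (⊤ : Submodule A N) ∧ LocalizedModule.mk y t = z := by
      intro z hz
      refine Submodule.smul_induction_on hz (fun r hr z _ => ?_) (fun a b ha hb => ?_)
      · induction z using LocalizedModule.induction_on with
        | h n t => exact ⟨r • n, t, Submodule.smul_mem_smul hr Submodule.mem_top, (LocalizedModule.smul'_mk r n t).symm⟩
      · obtain ⟨y₁, t₁, hy₁, rfl⟩ := ha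
        obtain ⟨y₂, t₂, hy₂, rfl⟩ := hb
        exact ⟨t₂ • y₁ + t₁ • y₂, t₁ * t₂, add_mem (Submodule.smul_mem _ _ hy₁) (Submodule.smul_mem _ _ hy₂),
          LocalizedModule.mk_add_mk.symm⟩
    obtain ⟨y, t, hy, e⟩ := H _ h
    obtain ⟨c, hc⟩ := LocalizedModule.mk_eq.1 e
    refine ⟨(c : A) * t, mul_mem c.2 t.2, ?_⟩
    rw [mul_smul]
    have : (c : A) • (t : A) • x = (c : A) • (s : A) • y := by
      simpa only [Submonoid.smul_def] using hc.symm
    rw [this]
    exact Submodule.smul_mem _ _ (Submodule.smul_mem _ _ hy)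
  · rintro ⟨t, ht, h⟩
    have h1 : ∀ y ∈ I • (⊤ : Submodule A N), ∀ t' : q.primeCompl,
        LocalizedModule.mk y t' ∈ I • (⊤ : Submodule A (LocalizedModule q.primeCompl N)) := by
      intro y hy t'
      refine Submodule.smul_induction_on hy (fun r hr n _ => ?_) (fun a b ha hb => ?_)
      · rw [← LocalizedModule.smul'_mk]
        exact Submodule.smul_mem_smul hr Submodule.mem_top
      · rw [show LocalizedModule.mk (a + b) t' = LocalizedModule.mk a t' + LocalizedModule.mk b t' by
          rw [LocalizedModule.mk_add_mk]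
          exact LocalizedModule.mk_eq.2 ⟨1, by simp [smul_add, mul_smul, Submonoid.smul_def]⟩]
        exact add_mem ha hb
    have h2 := h1 _ h (⟨t, ht⟩ * s)
    rwa [show LocalizedModule.mk (t • x) (⟨t, ht⟩ * s) = LocalizedModule.mk x s from
      LocalizedModule.mk_cancel_common_left (⟨t, ht⟩ : q.primeCompl) s x] at h2

/-- the kernel of `N → N ⊗ κ(p)` and its image up to denominators -/
theorem fibre_elem {R : Type u} [CommRing R] (p : Ideal R) [p.IsPrime] (N : Type u) [AddCommGroup N] [Module R N] :
    (∀ y : N, y ⊗ₜ[R] (1 : p.ResidueField) = 0 → ∃ u ∉ p, u • y ∈ p • (⊤ : Submodule R N)) ∧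
    ∀ z : N ⊗[R] p.ResidueField, ∃ u ∉ p, ∃ n : N, u • z = n ⊗ₜ[R] (1 : p.ResidueField) := by
  let f₀ : (R ⧸ p) →ₗ[R] p.ResidueField := (IsScalarTower.toAlgHom R (R ⧸ p) p.ResidueField).toLinearMap
  haveI : IsLocalization (Algebra.algebraMapSubmonoid (R ⧸ p) p.primeCompl) p.ResidueField := by
    rw [show Algebra.algebraMapSubmonoid (R ⧸ p) p.primeCompl = nonZeroDivisors (R ⧸ p) from
      Submonoid.ext fun x => ⟨by
        rintro ⟨r, hr, rfl⟩
        exact mem_nonZeroDivisors_of_ne_zero fun h => hr (Ideal.Quotient.eq_zero_iff_mem.1 h),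
      fun hx => by
        obtain ⟨r, rfl⟩ := Ideal.Quotient.mk_surjective x
        exact ⟨r, fun h => nonZeroDivisors.ne_zero hx (Ideal.Quotient.eq_zero_iff_mem.2 h), rfl⟩⟩]
    infer_instance
  haveI : IsLocalizedModule p.primeCompl f₀ := isLocalizedModule_iff_isLocalization.2 inferInstance
  let F := AlgebraTensorModule.rTensor R N f₀
  haveI : IsLocalizedModule p.primeCompl F := inferInstance
  have hF : ∀ n : N, F ((1 : R ⧸ p) ⊗ₜ n) = (1 : p.ResidueField) ⊗ₜ n := fun n => by
    simp [F, f₀]
  let comm := TensorProduct.comm R N p.ResidueField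
  refine ⟨fun y hy => ?_, fun z => ?_⟩
  · have h0 : F ((1 : R ⧸ p) ⊗ₜ y) = 0 := by
      rw [hF, show (1 : p.ResidueField) ⊗ₜ[R] y = comm (y ⊗ₜ 1) from rfl, hy, map_zero]
    obtain ⟨u, hu⟩ := (IsLocalizedModule.eq_zero_iff p.primeCompl F).1 h0
    refine ⟨u, u.2, ?_⟩
    have h1 := congrArg (TensorProduct.quotTensorEquivQuotSMul N p) hu
    rw [map_zero, Submonoid.smul_def, ← TensorProduct.tmul_smul] at h1
    refine (Submodule.Quotient.mk_eq_zero _).1 (Eq.trans ?_ h1)
    simp
  · obtain ⟨⟨w, u⟩, hw⟩ := IsLocalizedModule.surj p.primeCompl F (comm z)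
    have key : ∀ w : (R ⧸ p) ⊗[R] N, ∃ n : N, (1 : R ⧸ p) ⊗ₜ[R] n = w := fun w => by
      induction w using TensorProduct.induction_on with
      | zero => exact ⟨0, by simp⟩
      | tmul r n =>
        obtain ⟨r, rfl⟩ := Ideal.Quotient.mk_surjective r
        refine ⟨r • n, ?_⟩
        rw [← TensorProduct.smul_tmul, Algebra.smul_def, mul_one]
        rfl
      | add a b ha hb =>
        obtain ⟨a, rfl⟩ := ha
        obtain ⟨b, rfl⟩ := hb
        exact ⟨a + b, TensorProduct.tmul_add _ _ _⟩
    obtain ⟨n, rfl⟩ := key w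
    refine ⟨u, u.2, n, comm.injective ?_⟩
    rw [map_smul]
    exact (hw.trans (hF n))

variable {R A : Type u} [CommRing R] [CommRing A] [Algebra R A]

/-- **flatness of the cokernel at a prime from exactness on the fibre** -/
theorem flatAt_coker [Algebra.FinitePresentation R A] [Module.Flat R A] (q : Ideal A) [q.IsPrime]
    {X Y Z : Type u} [AddCommGroup X] [Module A X] [AddCommGroup Y] [Module A Y] [AddCommGroup Z] [Module A Z]
    [Module R Z] [IsScalarTower R A Z] [Module.Free A Y] [Module.Finite A Y] [Module.Free A Z] [Module.Finite A Z]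
    [Module.Finite A X] (e : X →ₗ[A] Y) (d : Y →ₗ[A] Z) (hde : ∀ x, d (e x) = 0)
    (hz : ∀ y, d y ∈ ((q.comap (algebraMap R A)).map (algebraMap R A)) • (⊤ : Submodule A Z) →
      ∃ u ∈ q.primeCompl, ∃ w, u • y - e w ∈ ((q.comap (algebraMap R A)).map (algebraMap R A)) • (⊤ : Submodule A Y)) :
    Module.Flat R (LocalizedModule q.primeCompl (Z ⧸ LinearMap.range d)) := by
  let B := Localization.AtPrime q
  let C := Y ⧸ LinearMap.range e
  let I := (q.comap (algebraMap R A)).map (algebraMap R A)
  let d' : C →ₗ[A] Z := (LinearMap.range e).liftQ d (by rintro _ ⟨w, rfl⟩; exact hde w)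
  let L : LocalizedModule q.primeCompl C →ₗ[B] LocalizedModule q.primeCompl Z :=
    LocalizedModule.map q.primeCompl d'
  haveI : Module.Flat R Z := Module.Flat.trans R A Z
  haveI : Module.Flat R (LocalizedModule q.primeCompl Z) :=
    InjFibre.flat_localized q.primeCompl (LocalizedModule.mkLinearMap q.primeCompl Z)
  haveI : Module.FinitePresentation A Y := Module.finitePresentation_of_projective A Y
  haveI : Module.FinitePresentation A Z := Module.finitePresentation_of_projective A Z
  haveI : Module.FinitePresentation A C := Module.finitePresentation_of_surjective _ (Submodule.mkQ_surjective _)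
    (by rw [Submodule.ker_mkQ, LinearMap.range_eq_map]; exact Module.Finite.fg_top.map _)
  haveI : Module.FinitePresentation B (LocalizedModule q.primeCompl C) := inferInstance
  haveI : Module.FinitePresentation B (LocalizedModule q.primeCompl Z) := inferInstance
  have hpI : (q.comap (algebraMap R A)).map (algebraMap R B) = I.map (algebraMap A B) := by
    rw [Ideal.map_map]; rfl
  obtain ⟨-, hflat⟩ := InjFibre.atPrime (R := R) (S := A) q L (fun z hzz => by
    rw [hpI] at hzz ⊢
    induction z using LocalizedModule.induction_on with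
    | h c s =>
      obtain ⟨y, rfl⟩ := Submodule.Quotient.mk_surjective _ c
      have hL : L (LocalizedModule.mk (Submodule.Quotient.mk y) s) = LocalizedModule.mk (d y) s := by
        change IsLocalizedModule.map q.primeCompl _ _ d' _ = _
        rw [IsLocalizedModule.mk_eq_mk', IsLocalizedModule.map_mk', IsLocalizedModule.mk_eq_mk']
        rfl
      rw [hL] at hzz
      obtain ⟨t, ht, hty⟩ := (mem_map_smul_iff q I _ s).1 hzz
      obtain ⟨u, hu, w, hw⟩ := hz (t • y) (by rw [map_smul]; exact hty)
      refine (mem_map_smul_iff q I _ s).2 ⟨u * t, mul_mem hu ht, ?_⟩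
      have h1 := Submodule.mem_map_of_mem (f := (LinearMap.range e).mkQ) hw
      rw [Submodule.map_smul''] at h1
      convert Submodule.smul_mono le_rfl le_top h1 using 1
      rw [mul_smul, map_sub, map_smul, map_smul, Submodule.mkQ_apply, Submodule.mkQ_apply,
        (Submodule.Quotient.mk_eq_zero _).2 (LinearMap.mem_range_self e w), sub_zero])
  let π := LocalizedModule.map q.primeCompl (LinearMap.range d).mkQ
  have hex : Function.Exact L π :=
    LocalizedModule.map_exact q.primeCompl d' (LinearMap.range d).mkQ (LinearMap.exact_iff.2 (by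
      rw [Submodule.ker_mkQ]
      exact (Submodule.range_liftQ _ _ _).symm))
  have hπ : Function.Surjective π := LocalizedModule.map_surjective _ _ (Submodule.mkQ_surjective _)
  exact Module.Flat.of_linearEquiv ((((Submodule.quotEquivOfEq _ _ hex.linearMap_ker_eq.symm).trans
    (π.quotKerEquivOfSurjective hπ)).restrictScalars R)).symm

end Groth.Agent.RelPerfFibres
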