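import Groth.Agent.RelPerfFibres.Main
import Groth.Agent.KSixLib.FibreBd
import Groth.Agent.DRingKP.BC

/-!
# Tor amplitude of a localisation from the fibre
-/

set_option backward.isDefEq.respectTransparency false
set_option backward.isDefEq.respectTransparency.types false
set_option linter.style.haveILetI false
set_option autoImplicit false
universe u

namespace Groth.Agent.RelPerfFibres

open CategoryTheory Limits DerivedCategory HomologicalComplex MonoidalCategory TensorProduct
open Groth.Agent.DRingKP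
open Groth.Agent.W7RelPerf (rsM rsC)

attribute [local instance] HasDerivedCategory.standard

/-- exactness modulo the maximal ideal from exactness after `⊗ κ` -/
theorem exists_sub_mem {Rp B : Type u} [CommRing Rp] [IsLocalRing Rp] [CommRing B] [Algebra Rp B] (Q : DRing.Cx B)
    {i j k : ℤ} (hij : i + 1 = j) (hjk : j + 1 = k)
    (h : ((tR (ModuleCat.of Rp (IsLocalRing.ResidueField Rp))).obj ((rsC Rp B).obj Q)).ExactAt j)
    (y : Q.X j) (hy : (Q.d j k).hom y ∈ ((IsLocalRing.maximalIdeal Rp).map (algebraMap Rp B)) • (⊤ : Submodule B (Q.X k))) :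
    ∃ w : Q.X i, y - (Q.d i j).hom w ∈
      ((IsLocalRing.maximalIdeal Rp).map (algebraMap Rp B)) • (⊤ : Submodule B (Q.X j)) := by
  let m := IsLocalRing.maximalIdeal Rp
  let κ := IsLocalRing.ResidueField Rp
  let T := (rsC Rp B).obj Q
  letI : ∀ n, Module Rp (Q.X n) := fun n => Module.compHom _ (algebraMap Rp B)
  haveI : ∀ n, IsScalarTower Rp B (Q.X n) := fun n => IsScalarTower.of_algebraMap_smul fun _ _ => rfl
  rw [exactAt_iff' _ i j k (by simp; omega) (by simp; omega), ShortComplex.moduleCat_exact_iff] at h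
  have hmem : ∀ (n : ℤ) (x : Q.X n), x ∈ (m.map (algebraMap Rp B)) • (⊤ : Submodule B (Q.X n)) ↔
      (show T.X n from x) ∈ m • (⊤ : Submodule Rp (T.X n)) := fun n x => by
    rw [← Submodule.restrictScalars_mem Rp, Submodule.restrictScalars_map_smul_eq, Submodule.restrictScalars_top]
  let E : ∀ n, (T.X n) ⊗[Rp] κ ≃ₗ[Rp] T.X n ⧸ m • (⊤ : Submodule Rp (T.X n)) :=
    fun n => TensorProduct.tensorQuotEquivQuotSMul (T.X n) m
  have hE : ∀ n (x : T.X n), E n (x ⊗ₜ (1 : κ)) = Submodule.Quotient.mk x := fun n x => by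
    exact (TensorProduct.tensorQuotEquivQuotSMul_tmul_mk (I := m) x (1 : Rp)).trans (by rw [one_smul])
  have hsurj : ∀ n (z : (T.X n) ⊗[Rp] κ), ∃ x, z = x ⊗ₜ (1 : κ) := fun n z => by
    obtain ⟨x, hx⟩ := Submodule.Quotient.mk_surjective _ (E n z)
    exact ⟨x, (E n).injective (by rw [hE, hx])⟩
  have hd0 : ((T.d j k).hom y) ⊗ₜ[Rp] (1 : κ) = 0 :=
    (E k).injective (by rw [hE, map_zero, Submodule.Quotient.mk_eq_zero]; exact (hmem k _).1 hy)
  obtain ⟨z, hz⟩ := h ((show T.X j from y) ⊗ₜ[Rp] (1 : κ)) hd0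
  obtain ⟨w, rfl⟩ := hsurj i z
  refine ⟨w, (hmem j _).2 ((Submodule.Quotient.mk_eq_zero _).1 ?_)⟩
  show Submodule.Quotient.mk ((show T.X j from y) - (T.d i j).hom w) = 0
  rw [Submodule.Quotient.mk_sub, sub_eq_zero, ← hE, ← hE]
  exact congrArg (E j) hz.symm

variable {R A : Type u} [CommRing R] [CommRing A] [Algebra R A]

/-- **tor amplitude of a localisation from the fibre** -/
theorem amp_local [Module.Flat R A] [Algebra.FinitePresentation R A]
    (q : Ideal A) [q.IsPrime] (p : Ideal R) [p.IsPrime] (hpq : p = Ideal.comap (algebraMap R A) q)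
    [DRing.HasLBaseChange (algebraMap A (Localization.AtPrime q))]
    [DRing.HasLTensor (Localization.AtPrime p) (ModuleCat.of (Localization.AtPrime p) p.ResidueField)]
    (K : Dual.D A) (hK : DRing.IsPseudoCoherent' A K) (a b : ℤ)
    (hfib : ∀ i : ℤ, i < a ∨ b < i → Subsingleton (Dual.HD (Localization.AtPrime p)
      ((DRing.LTensor (Localization.AtPrime p) (ModuleCat.of (Localization.AtPrime p) p.ResidueField)).obj
        ((DRing.restrictD (Localization.localRingHom p q (algebraMap R A) hpq)).obj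
          ((DRing.LBaseChange (algebraMap A (Localization.AtPrime q))).obj K))) i)) :
    DRing.HasTorAmplitudeIn R a b ((DRing.restrictD (algebraMap R (Localization.AtPrime q))).obj
      ((DRing.LBaseChange (algebraMap A (Localization.AtPrime q))).obj K)) := by
  let B := Localization.AtPrime q
  let Rp := Localization.AtPrime p
  letI : Algebra Rp B := (Localization.localRingHom p q (algebraMap R A) hpq).toAlgebra
  haveI : IsScalarTower R Rp B := IsScalarTower.of_algebraMap_eq fun x => by
    rw [IsScalarTower.algebraMap_apply R A B]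
    exact (Localization.localRingHom_to_map p q (algebraMap R A) hpq x).symm
  haveI : Module.Flat A B := IsLocalization.flat B q.primeCompl
  haveI : Module.Flat R B := Module.Flat.trans R A B
  haveI : Module.Flat Rp B := (Module.flat_iff_of_isLocalization Rp p.primeCompl (M := B)).2 inferInstance
  obtain ⟨P, c, hc, hP, ⟨eP⟩⟩ := id hK
  haveI := isKProjective_of_vanishesAbove hc (projective_X (termwiseFiniteProjective_of_free hP))
  let Q := (bc (algebraMap A B)).obj P
  have hQb : DRing.VanishesAbove Q c := fun i hi => (ModuleCat.extendScalars.{u, u, u} _).map_isZero (hc i hi)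
  have hQ : DRing.TermwiseFiniteFree Q := fun i => extendScalars_finiteFree (algebraMap A B) (hP i)
  let KQ := (DRing.LBaseChange (algebraMap A B)).obj K
  let eQ : DRing.toD Q ≅ KQ := (lBaseChangeIso (algebraMap A B) P).symm ≪≫
    (DRing.LBaseChange (algebraMap A B)).mapIso eP
  have hQp : DRing.TermwiseFlat ((rsC Rp B).obj Q) := fun i => by
    letI : Module Rp (Q.X i) := Module.compHom _ (algebraMap Rp B)
    haveI : IsScalarTower Rp B (Q.X i) := IsScalarTower.of_algebraMap_smul fun _ _ => rfl
    haveI := (hQ i).2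
    exact (Module.Flat.trans Rp B (Q.X i) : Module.Flat Rp (Q.X i))
  have hmap : (IsLocalRing.maximalIdeal Rp).map (algebraMap Rp B) =
      (q.comap (algebraMap R A)).map (algebraMap R B) := by
    rw [← hpq, ← IsLocalization.AtPrime.map_eq_maximalIdeal p Rp, Ideal.map_map,
      ← IsScalarTower.algebraMap_eq]
  have hloc : ∀ (i j k : ℤ), i + 1 = j → j + 1 = k → (j < a ∨ b < j) → ∀ y : Q.X j,
      (Q.d j k).hom y ∈ ((q.comap (algebraMap R A)).map (algebraMap R B)) • (⊤ : Submodule B (Q.X k)) →
      ∃ w : Q.X i, y - (Q.d i j).hom w ∈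
        ((q.comap (algebraMap R A)).map (algebraMap R B)) • (⊤ : Submodule B (Q.X j)) := by
    rw [← hmap]
    exact fun i j k hij hjk hj y hy => exists_sub_mem Q hij hjk
      ((isZero_lTensor_iff (K := KQ) hQb hQp eQ _ j).1 (hfib j hj)) y hy
  letI : ∀ i, Module R (Q.X i) := fun i => Module.compHom _ (algebraMap R B)
  haveI : ∀ i, IsScalarTower R B (Q.X i) := fun i => IsScalarTower.of_algebraMap_smul fun _ _ => rfl
  haveI : ∀ i, Module.Free B (Q.X i) := fun i => (hQ i).2
  haveI : ∀ i, Module.Finite B (Q.X i) := fun i => (hQ i).1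
  -- exactness below and the flat cokernel
  have low : ∀ N : ℕ, 0 < N →
      (∀ k : ℕ, k < N → Q.ExactAt (a - ((k + 1 : ℕ) : ℤ))) ∧
        Module.Flat R (Q.X (a - ((0 : ℕ) : ℤ)) ⧸
          LinearMap.range (Q.d (a - ((0 + 1 : ℕ) : ℤ)) (a - ((0 : ℕ) : ℤ))).hom) := by
    intro N hN
    obtain ⟨h1, h2⟩ := KSixLib.exact_flat_at_prime (R := R) (S := A) (B := B) q
      (fun k : ℕ => Q.X (a - (k : ℤ))) (fun k => (Q.d (a - ((k + 1 : ℕ) : ℤ)) (a - (k : ℤ))).hom)
      (fun k x => LinearMap.congr_fun (congrArg ModuleCat.Hom.hom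
        (Q.d_comp_d (a - ((k + 1 + 1 : ℕ) : ℤ)) (a - ((k + 1 : ℕ) : ℤ)) (a - (k : ℤ)))) x) N hN
      fun k _ x hx => hloc _ _ _ (by push_cast; ring) (by push_cast; ring) (Or.inl (by push_cast; omega)) x hx
    refine ⟨fun k hk => ?_, h2⟩
    rw [exactAt_iff' _ (a - ((k + 1 + 1 : ℕ) : ℤ)) (a - ((k + 1 : ℕ) : ℤ)) (a - (k : ℤ)) (by simp; omega)
      (by simp; omega), ShortComplex.moduleCat_exact_iff]
    exact fun x hx => h1 k hk x hx
  have hbelow : ∀ i, i < a → IsZero (Q.homology i) := fun i hi => by
    obtain ⟨k, hk⟩ := Int.le.dest (show i + 1 ≤ a by omega)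
    have := (low (k + 1) (by omega)).1 k (by omega)
    rw [show a - ((k + 1 : ℕ) : ℤ) = i by push_cast; omega] at this
    exact (exactAt_iff_isZero_homology _ _).1 this
  -- exactness above
  have habove : ∀ i, b < i → IsZero (Q.homology i) := by
    suffices H : ∀ (n : ℕ) (i : ℤ), b < i → c < i + n → IsZero (Q.homology i) from
      fun i hi => H (c + 1 - i).toNat i hi (by omega)
    intro n
    induction n with
    | zero => intro i _ hi; exact ShortComplex.isZero_homology_of_isZero_X₂ _ (hQb i (by omega))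
    | succ n ih =>
      intro i hb hi
      obtain ⟨hproj, s, hs⟩ := exists_section (E := Q) (i + 1) c hQb
        (projective_X (termwiseFiniteProjective_of_free hQ)) (fun j hj => ih j (by omega) (by omega)) i (by omega)
      let d := (Q.d i (i + 1)).hom
      let Z := LinearMap.ker d
      have hdd : ∀ x, (Q.d (i + 1) (i + 1 + 1)).hom (d x) = 0 := fun x =>
        LinearMap.congr_fun (congrArg ModuleCat.Hom.hom (Q.d_comp_d i (i + 1) (i + 1 + 1))) x
      let π : Q.X i →ₗ[B] Z :=
        (LinearMap.id - s ∘ₗ d.codRestrict (LinearMap.ker (Q.d (i + 1) (i + 1 + 1)).hom) hdd).codRestrict Z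
          fun x => by
            simp only [LinearMap.mem_ker, LinearMap.sub_apply, LinearMap.id_apply, LinearMap.comp_apply, map_sub, Z]
            rw [hs]
            exact sub_self _
      have hπ : ∀ z : Z, π z.1 = z := fun z => Subtype.ext (by
        show z.1 - s _ = z.1
        rw [show d.codRestrict (LinearMap.ker (Q.d (i + 1) (i + 1 + 1)).hom) hdd z.1 = 0 from Subtype.ext z.2, map_zero,
          sub_zero])
      haveI : Module.Finite B Z := Module.Finite.of_surjective π fun z => ⟨z.1, hπ z⟩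
      have hde : ∀ x, (Q.d (i - 1) i).hom x ∈ Z := fun x =>
        LinearMap.congr_fun (congrArg ModuleCat.Hom.hom (Q.d_comp_d (i - 1) i (i + 1))) x
      let e : Q.X (i - 1) →ₗ[B] Z := (Q.d (i - 1) i).hom.codRestrict Z hde
      let I := (q.comap (algebraMap R A)).map (algebraMap R B)
      have htop : (⊤ : Submodule B Z) ≤ LinearMap.range e ⊔ I • (⊤ : Submodule B Z) := fun z _ => by
        obtain ⟨w, hw⟩ := hloc (i - 1) i (i + 1) (by omega) rfl (Or.inr hb) z.1
          (by rw [show (Q.d i (i + 1)).hom z.1 = 0 from z.2]; exact zero_mem _)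
        have h1 := Submodule.mem_map_of_mem (f := π) hw
        rw [Submodule.map_smul''] at h1
        have h2 : z - e w ∈ I • (⊤ : Submodule B Z) := by
          convert Submodule.smul_mono le_rfl le_top h1 using 1
          rw [map_sub, hπ, show π ((Q.d (i - 1) i).hom w) = e w from hπ ⟨_, hde w⟩]
        exact Submodule.mem_sup.2 ⟨e w, ⟨w, rfl⟩, z - e w, h2, add_sub_cancel _ _⟩
      have hI : I ≤ Ideal.jacobson (⊥ : Ideal B) := by
        rw [IsLocalRing.jacobson_eq_maximalIdeal ⊥ bot_ne_top, Ideal.map_le_iff_le_comap]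
        intro x hx
        rw [Ideal.mem_comap, IsScalarTower.algebraMap_apply R A B, IsLocalization.AtPrime.to_map_mem_maximal_iff B q]
        exact hx
      have hr := Submodule.le_of_le_smul_of_le_jacobson_bot Module.Finite.fg_top hI htop
      rw [← exactAt_iff_isZero_homology, exactAt_iff' _ (i - 1) i (i + 1) (by simp) (by simp),
        ShortComplex.moduleCat_exact_iff]
      intro x hx
      obtain ⟨w, hw⟩ := hr (show (⟨x, hx⟩ : Z) ∈ (⊤ : Submodule B Z) from Submodule.mem_top)
      exact ⟨w, congrArg Subtype.val hw⟩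
  -- the representative
  have hfl : Module.Flat R ((rsM R B).obj (Q.opcycles a)) := by
    have h2 : Module.Flat R (Q.X a ⧸ LinearMap.range (Q.d (a - 1) a).hom) := by
      have h := (low 1 one_pos).2
      rw [show a - ((0 + 1 : ℕ) : ℤ) = a - 1 by push_cast; ring,
        show a - ((0 : ℕ) : ℤ) = a by push_cast; ring] at h
      exact h
    let eop : Q.opcycles a ≅ ModuleCat.of B (Q.X a ⧸ LinearMap.range (Q.d (a - 1) a).hom) :=
      Q.opcyclesIsoSc' (a - 1) a (a + 1) (by simp) (by simp) ≪≫ (Q.sc' (a - 1) a (a + 1)).moduleCatOpcyclesIso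
    let l : (rsM R B).obj (ModuleCat.of B (Q.X a ⧸ LinearMap.range (Q.d (a - 1) a).hom)) ≃ₗ[R]
        (Q.X a ⧸ LinearMap.range (Q.d (a - 1) a).hom) :=
      { toFun := fun x => x
        map_add' := fun _ _ => rfl
        map_smul' := fun r x => by
          obtain ⟨y, rfl⟩ := Submodule.Quotient.mk_surjective _ x
          rfl
        invFun := fun x => x
        left_inv := fun _ => rfl
        right_inv := fun _ => rfl }
    exact Module.Flat.of_linearEquiv (((rsM R B).mapIso eop).toLinearEquiv.trans l)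
  haveI : Q.IsGE a := (CochainComplex.isGE_iff Q a).2 fun i hi =>
    (HomologicalComplex.exactAt_iff_isZero_homology _ _).2 (hbelow i hi)
  haveI : QuasiIso (Q.πTruncGE a) := (CochainComplex.quasiIso_πTruncGE_iff Q a).2 inferInstance
  haveI : Q.IsStrictlyLE c := (CochainComplex.isStrictlyLE_iff Q c).2 hQb
  refine amp_shrink (b := c) ⟨(rsC R B).obj (Q.truncGE a), fun i hi => (rsM R B).map_isZero ?_, fun i => ?_,
    ⟨((rsM R B).mapDerivedCategoryFactors.app _).symm ≪≫ (DRing.restrictD (algebraMap R B)).mapIso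
      ((asIso (DerivedCategory.Q.map (Q.πTruncGE a))).symm ≪≫ eQ)⟩⟩ ((isAbove_res _).2 fun i hi => ?_)
  · rcases hi with hi | hi
    · exact (Q.truncGE a).isZero_of_isStrictlyGE a i hi
    · exact (Q.truncGE a).isZero_of_isStrictlyLE c i hi
  · rcases lt_trichotomy i a with hi | rfl | hi
    · haveI := ModuleCat.subsingleton_of_isZero
        ((rsM R B).map_isZero ((Q.truncGE a).isZero_of_isStrictlyGE a i hi))
      exact inferInstanceAs (Module.Flat R ((rsM R B).obj ((Q.truncGE a).X i)))
    · haveI := hfl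
      exact Module.Flat.of_linearEquiv ((rsM R B).mapIso (Q.truncGEXIsoOpcycles i)).toLinearEquiv
    · haveI : Module.Flat R ((rsM R B).obj (Q.X i)) :=
        (Module.Flat.trans R B (Q.X i) : Module.Flat R (Q.X i))
      exact Module.Flat.of_linearEquiv ((rsM R B).mapIso (Q.truncGEXIso a i hi)).toLinearEquiv
  · exact ((habove i (by omega)).of_iso ((homologyFunctorFactors (ModuleCat.{u} B) i).app Q)).of_iso
      ((DerivedCategory.homologyFunctor (ModuleCat.{u} B) i).mapIso eQ).symm

end Groth.Agent.RelPerfFibres
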