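import Groth.Agent.RelPerfFibres.Alg
import Groth.Agent.RelPerfAffine.Main
import Groth.Agent.DRingKP.TorMore
import Groth.Agent.DRingKP.Restrict

/-!
# Relative perfectness from boundedness on the fibres
-/

set_option backward.isDefEq.respectTransparency false
set_option backward.isDefEq.respectTransparency.types false
set_option linter.style.haveILetI false
set_option autoImplicit false
universe u

namespace Groth.Agent.RelPerfFibres

open CategoryTheory Limits DerivedCategory HomologicalComplex MonoidalCategory TensorProduct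
open Groth.Agent.DRingKP
open Groth.Agent.W7RelPerf (rsM rsC)

attribute [local instance] HasDerivedCategory.standard

variable {R A : Type u} [CommRing R] [CommRing A] [Algebra R A]

/-- derived tensor products over the base through a representative over `A` -/
theorem isZero_lTensor_iff {K : Dual.D A} {P : DRing.Cx A} {c : ℤ} (hc : DRing.VanishesAbove P c)
    (hPR : DRing.TermwiseFlat ((rsC R A).obj P)) (eP : DRing.toD P ≅ K) (M : ModuleCat.{u} R)
    [DRing.HasLTensor R M] (i : ℤ) :
    Subsingleton (Dual.HD R ((DRing.LTensor R M).obj ((DRing.restrictD (algebraMap R A)).obj K)) i) ↔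
      ((tR M).obj ((rsC R A).obj P)).ExactAt i := by
  let T := (rsC R A).obj P
  have hTb : DRing.VanishesAbove T c := fun j hj => (rsM R A).map_isZero (hc j hj)
  obtain ⟨G, c', hGb, hG, ⟨eG⟩⟩ := exists_proj_rep_le (DRing.toD T)
    ⟨c + 1, fun j hj => (ShortComplex.isZero_homology_of_isZero_X₂ _ (hTb j (by lia))).of_iso
      ((homologyFunctorFactors (ModuleCat.{u} R) j).app _)⟩
  haveI := isKProjective_of_vanishesAbove hGb hG
  obtain ⟨g, hg⟩ := PerfLocal.exists_lift eG.hom
  haveI : IsIso (DerivedCategory.Q.map g) := by rw [hg]; infer_instance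
  haveI : QuasiIso g := (DerivedCategory.isIso_Q_map_iff_quasiIso _ g).1 inferInstance
  haveI := quasiIso_tR g hGb hTb (flat_of_projective hG) hPR M
  let e := (DerivedCategory.homologyFunctor (ModuleCat.{u} R) i).mapIso
    ((DRing.LTensor R M).mapIso ((DRing.restrictD (algebraMap R A)).mapIso eP.symm ≪≫
      (rsM R A).mapDerivedCategoryFactors.app P ≪≫ eG.symm) ≪≫ lTensorIso M G ≪≫
      asIso (DerivedCategory.Q.map ((tR M).map g))) ≪≫ (homologyFunctorFactors _ i).app _
  rw [exactAt_iff_isZero_homology]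
  exact ⟨fun h => (@ModuleCat.isZero_of_subsingleton _ _ _ h).of_iso e.symm,
    fun h => ModuleCat.subsingleton_of_isZero (h.of_iso e)⟩

/-- the flat cokernels -/
def FlatLocus (P : DRing.Cx A) (hP : ∀ i, Module R (P.X i)) (_ : ∀ i, IsScalarTower R A (P.X i)) (a : ℤ) :
    Set (PrimeSpectrum A) :=
  {q | Module.Flat R (LocalizedModule q.asIdeal.primeCompl (P.X a ⧸ LinearMap.range (P.d (a - 1) a).hom))}

variable [Module.Flat R A] [Algebra.FinitePresentation R A] (P : DRing.Cx A)
  [hM : ∀ i, Module R (P.X i)] [hT : ∀ i, IsScalarTower R A (P.X i)]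

theorem mem_locus (hP : DRing.TermwiseFiniteFree P) (q : PrimeSpectrum A) (a : ℤ)
    (h : ((tR (ModuleCat.of R (q.asIdeal.comap (algebraMap R A)).ResidueField)).obj
      ((rsC R A).obj P)).ExactAt (a - 1)) : q ∈ FlatLocus P hM hT a := by
  let p := q.asIdeal.comap (algebraMap R A)
  let κ := p.ResidueField
  rw [exactAt_iff' _ (a - 1 - 1) (a - 1) a (by simp) (by simp), ShortComplex.moduleCat_exact_iff] at h
  haveI := (hP a).1; haveI := (hP a).2
  haveI := (hP (a - 1)).1; haveI := (hP (a - 1)).2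
  haveI := (hP (a - 1 - 1)).1
  haveI : ∀ i, Module.Free A (P.X i) := fun i => (hP i).2
  have hmem : ∀ (i : ℤ) (x : P.X i), x ∈ (p.map (algebraMap R A)) • (⊤ : Submodule A (P.X i)) ↔
      x ∈ p • (⊤ : Submodule R (P.X i)) := fun i x => by
    rw [← Submodule.restrictScalars_mem R, Submodule.restrictScalars_map_smul_eq, Submodule.restrictScalars_top]
  have hsm : ∀ (i : ℤ) (r : R) (x : P.X i), r • x = algebraMap R A r • x :=
    fun i r x => (algebraMap_smul A r x).symm
  let l : ∀ i : ℤ, ((rsC R A).obj P).X i ≃ₗ[R] P.X i := fun i =>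
    { toFun := fun x => x
      map_add' := fun _ _ => rfl
      map_smul' := fun r x => (hsm i r x).symm
      invFun := fun x => x
      left_inv := fun _ => rfl
      right_inv := fun _ => rfl }
  let dd : ∀ i j : ℤ, P.X i →ₗ[R] P.X j := fun i j => (P.d i j).hom.restrictScalars R
  have hd : ∀ (i j : ℤ) (z : ((rsC R A).obj P).X i ⊗[R] κ),
      TensorProduct.congr (l j) (LinearEquiv.refl R κ)
        ((((tR (ModuleCat.of R κ)).obj ((rsC R A).obj P)).d i j).hom z) =
      (dd i j).rTensor κ (TensorProduct.congr (l i) (LinearEquiv.refl R κ) z) := by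
    intro i j z
    induction z using TensorProduct.induction_on with
    | zero => simp only [map_zero]
    | tmul x r => rfl
    | add x y hx hy =>
      simp only [map_add, ← hx, ← hy]
  refine flatAt_coker (R := R) q.asIdeal (P.d (a - 1 - 1) (a - 1)).hom (P.d (a - 1) a).hom
    (fun x => LinearMap.congr_fun (congrArg ModuleCat.Hom.hom (P.d_comp_d (a - 1 - 1) (a - 1) a)) x)
    fun y hy => ?_
  have hy0 : (dd (a - 1) a).rTensor κ (y ⊗ₜ (1 : κ)) = 0 := by
    rw [LinearMap.rTensor_tmul]
    refine Submodule.smul_induction_on ((hmem a _).1 hy) (fun r hr n _ => ?_) (fun x₁ x₂ h₁ h₂ => ?_)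
    · rw [TensorProduct.smul_tmul, Algebra.smul_def, mul_one, Ideal.algebraMap_residueField_eq_zero.2 hr,
        TensorProduct.tmul_zero]
    · rw [TensorProduct.add_tmul, h₁, h₂, add_zero]
  let c := fun i => TensorProduct.congr (l i) (LinearEquiv.refl R κ)
  have h0 : (((tR (ModuleCat.of R κ)).obj ((rsC R A).obj P)).d (a - 1) a).hom ((c (a - 1)).symm (y ⊗ₜ 1)) = 0 :=
    (c a).injective (by rw [hd, LinearEquiv.apply_symm_apply, map_zero]; exact hy0)
  obtain ⟨z, hz⟩ := h _ h0
  have hz' : (dd (a - 1 - 1) (a - 1)).rTensor κ (c _ z) = y ⊗ₜ (1 : κ) := by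
    rw [← hd]
    exact (congrArg (c (a - 1)) hz).trans (LinearEquiv.apply_symm_apply _ _)
  obtain ⟨u, hu, n, hn⟩ := (fibre_elem p (P.X (a - 1 - 1))).2 (c _ z)
  have h1 : (u • y - dd (a - 1 - 1) (a - 1) n) ⊗ₜ[R] (1 : κ) = 0 := by
    rw [TensorProduct.sub_tmul, ← LinearMap.rTensor_tmul, ← hn, map_smul, hz', TensorProduct.smul_tmul', sub_self]
  obtain ⟨v, hv, hvy⟩ := (fibre_elem p (P.X (a - 1))).1 _ h1
  refine ⟨algebraMap R A (v * u), fun h' => ((inferInstance : p.IsPrime).mem_or_mem
    (show v * u ∈ p from h')).elim hv hu, v • n, (hmem _ _).2 ?_⟩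
  rw [← hsm, hsm (a - 1 - 1) v n, map_smul, ← hsm, mul_smul, ← smul_sub]
  exact hvy

theorem isOpen_locus (hP : DRing.TermwiseFiniteFree P) (a : ℤ) : IsOpen (FlatLocus P hM hT a) := by
  haveI := (hP a).1; haveI := (hP a).2; haveI := (hP (a - 1)).1
  haveI : Module.FinitePresentation A (P.X a) := Module.finitePresentation_of_projective A (P.X a)
  haveI : Module.FinitePresentation A (P.X a ⧸ LinearMap.range (P.d (a - 1) a).hom) :=
    Module.finitePresentation_of_surjective _ (Submodule.mkQ_surjective _)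
      (by rw [Submodule.ker_mkQ, LinearMap.range_eq_map]; exact Module.Finite.fg_top.map _)
  exact FlatSpread.isOpen_flatLocus

theorem locus_anti (hP : DRing.TermwiseFiniteFree P) (a : ℤ) (hz : P.ExactAt a) :
    FlatLocus P hM hT (a + 1) ⊆ FlatLocus P hM hT a := by
  intro q hq
  haveI := (hP (a + 1)).1; haveI := (hP (a + 1)).2
  let d := (P.d a (a + 1)).hom
  let e := (P.d (a - 1) a).hom
  have hde : LinearMap.range e ≤ LinearMap.ker d := by
    rintro _ ⟨x, rfl⟩
    exact LinearMap.congr_fun (congrArg ModuleCat.Hom.hom (P.d_comp_d (a - 1) a (a + 1))) x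
  rw [exactAt_iff' _ (a - 1) a (a + 1) (by simp) (by simp), ShortComplex.moduleCat_exact_iff] at hz
  let d' : (P.X a ⧸ LinearMap.range e) →ₗ[A] P.X (a + 1) := (LinearMap.range e).liftQ d hde
  have hinj : Function.Injective d' := by
    refine (injective_iff_map_eq_zero d').2 fun x hx => ?_
    obtain ⟨x, rfl⟩ := Submodule.Quotient.mk_surjective _ x
    obtain ⟨w, hw⟩ := hz x hx
    exact (Submodule.Quotient.mk_eq_zero _).2 ⟨w, hw⟩
  let π := (LinearMap.range (P.d ((a + 1) - 1) (a + 1)).hom).mkQ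
  have hex : Function.Exact d' π := LinearMap.exact_iff.2 (by
    rw [Submodule.ker_mkQ, Submodule.range_liftQ]
    have : (a + 1) - 1 = a := by ring
    rw [this])
  let S := q.asIdeal.primeCompl
  haveI : Module.Flat R (P.X (a + 1)) := Module.Flat.trans R A _
  haveI : Module.Flat R (LocalizedModule S (P.X (a + 1))) :=
    InjFibre.flat_localized S (LocalizedModule.mkLinearMap S _)
  haveI : Module.Flat R (LocalizedModule S (P.X (a + 1) ⧸ LinearMap.range (P.d ((a + 1) - 1) (a + 1)).hom)) := hq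
  exact FibDepth.flat_ker ((LocalizedModule.map S d').restrictScalars R) ((LocalizedModule.map S π).restrictScalars R)
    (LocalizedModule.map_injective _ _ hinj) (LocalizedModule.map_surjective _ _ (Submodule.mkQ_surjective _))
    (LocalizedModule.map_exact S d' π hex)

theorem flat_coker_of_fibres (hP : DRing.TermwiseFiniteFree P) {a₀ : ℤ}
    (hz : ∀ i, i < a₀ → P.ExactAt i)
    (h : ∀ q : PrimeSpectrum A, ∃ a : ℤ, ∀ i, i < a →
      ((tR (ModuleCat.of R (q.asIdeal.comap (algebraMap R A)).ResidueField)).obj ((rsC R A).obj P)).ExactAt i) :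
    ∃ a, a ≤ a₀ ∧ Module.Flat R (P.X a ⧸ LinearMap.range (P.d (a - 1) a).hom) := by
  classical
  have hdown : ∀ (k : ℕ) (a : ℤ), a + k ≤ a₀ → FlatLocus P hM hT (a + k) ⊆ FlatLocus P hM hT a := by
    intro k
    induction k with
    | zero => intro a _; simp
    | succ k ih =>
      intro a ha
      refine Set.Subset.trans ?_ (ih a (by lia))
      rw [show a + ((k + 1 : ℕ) : ℤ) = (a + k) + 1 by push_cast; ring]
      exact locus_anti P hP _ (hz _ (by lia))
  choose aq haq using h
  have hcov : ∀ q, q ∈ FlatLocus P hM hT (min (aq q) a₀) := fun q =>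
    mem_locus P hP q _ (haq q _ (by lia))
  obtain ⟨t, ht⟩ := isCompact_univ.elim_finite_subcover (fun q => FlatLocus P hM hT (min (aq q) a₀))
    (fun q => isOpen_locus P hP _) (fun q _ => Set.mem_iUnion.2 ⟨q, hcov q⟩)
  obtain ⟨a₁, ha₁⟩ := (t.image aq).bddBelow
  refine ⟨min a₁ a₀, min_le_right _ _, Module.flat_of_isLocalized_maximal A _
    (fun Q _ => LocalizedModule Q.primeCompl _) (fun Q _ => LocalizedModule.mkLinearMap Q.primeCompl _)
    fun Q hQ => ?_⟩
  obtain ⟨q, hqt, hq⟩ := Set.mem_iUnion₂.1 (ht (Set.mem_univ (⟨Q, hQ.isPrime⟩ : PrimeSpectrum A)))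
  have hle := ha₁ (Finset.mem_image_of_mem aq hqt)
  obtain ⟨k, hk⟩ := Int.le.dest (show min a₁ a₀ ≤ min (aq q) a₀ by omega)
  rw [← hk] at hq
  exact hdown k _ (by omega) hq

omit [Algebra.FinitePresentation R A] hM hT in
theorem iff_fibres [Algebra.FinitePresentation R A]
    [∀ p : PrimeSpectrum R, DRing.HasLTensor R (ModuleCat.of R p.asIdeal.ResidueField)]
    (K : Dual.D A) (hK : DRing.IsPseudoCoherent' A K) :
    Dual2.IsRelPerfect R A K ↔
      (∃ a : ℤ, ∀ i : ℤ, i < a → Subsingleton (Dual.HD A K i)) ∧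
        ∀ p : PrimeSpectrum R, ∃ a : ℤ, ∀ i : ℤ, i < a →
          Subsingleton (Dual.HD R ((DRing.LTensor R (ModuleCat.of R p.asIdeal.ResidueField)).obj
            ((DRing.restrictD (algebraMap R A)).obj K)) i) := by
  obtain ⟨P, c, hc, hP, ⟨eP⟩⟩ := id hK
  letI : ∀ i, Module R (P.X i) := fun i => Module.compHom _ (algebraMap R A)
  haveI : ∀ i, IsScalarTower R A (P.X i) := fun i => ⟨fun r x y => by rw [Algebra.smul_def, mul_smul]; rfl⟩
  have hPR : DRing.TermwiseFlat ((rsC R A).obj P) := fun i => by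
    haveI := (hP i).2
    exact Module.Flat.trans R A (P.X i)
  let eH := fun i => ((homologyFunctorFactors (ModuleCat.{u} A) i).app P).symm ≪≫
    (DerivedCategory.homologyFunctor (ModuleCat.{u} A) i).mapIso eP
  constructor
  · rintro ⟨-, a, b, hab⟩
    have hv : Van a b ((rsC R A).obj P) := torVan_rep (torVan_of_amp hab)
      (fun i hi => (rsM R A).map_isZero (hc i hi)) hPR
      (((rsM R A).mapDerivedCategoryFactors.app P).symm ≪≫ (DRing.restrictD (algebraMap R A)).mapIso eP)
    refine ⟨⟨a, fun i hi => ?_⟩, fun p => ⟨a, fun i hi => (isZero_lTensor_iff hc hPR eP _ i).2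
      ((exactAt_iff_isZero_homology _ _).2 (hv _ i (Or.inl hi)))⟩⟩
    have h1 := (isZero_homology_of_van hv (Or.inl hi)).of_iso ((P.sc i).mapHomologyIso (rsM R A)).symm
    haveI := ModuleCat.subsingleton_of_isZero h1
    exact ModuleCat.subsingleton_of_isZero
      (IsZero.of_iso (@ModuleCat.isZero_of_subsingleton _ _ (P.homology i) ‹_›) (eH i).symm)
  · rintro ⟨⟨a₀, ha₀⟩, hp⟩
    refine ⟨hK, ?_⟩
    have hz : ∀ i, i < a₀ → IsZero (P.homology i) := fun i hi =>
      (@ModuleCat.isZero_of_subsingleton _ _ _ (ha₀ i hi)).of_iso (eH i)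
    obtain ⟨a, ha, hflat⟩ := flat_coker_of_fibres P hP (fun i hi => (exactAt_iff_isZero_homology _ _).2 (hz i hi))
      fun q => by
        haveI : DRing.HasLTensor R (ModuleCat.of R (q.asIdeal.comap (algebraMap R A)).ResidueField) :=
          ‹∀ p : PrimeSpectrum R, DRing.HasLTensor R (ModuleCat.of R p.asIdeal.ResidueField)›
            ⟨q.asIdeal.comap (algebraMap R A), inferInstance⟩
        obtain ⟨a, ha⟩ := hp ⟨q.asIdeal.comap (algebraMap R A), inferInstance⟩
        exact ⟨a, fun i hi => (isZero_lTensor_iff hc hPR eP _ i).1 (ha i hi)⟩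
    refine RelPerfAffine.hasTor_of hc hPR eP (a := a) (fun i hi => hz i (by omega)) ?_
    let eop : P.opcycles a ≅ ModuleCat.of A (P.X a ⧸ LinearMap.range (P.d (a - 1) a).hom) :=
      P.opcyclesIsoSc' (a - 1) a (a + 1) (by simp) (by simp) ≪≫ (P.sc' (a - 1) a (a + 1)).moduleCatOpcyclesIso
    let l : (rsM R A).obj (ModuleCat.of A (P.X a ⧸ LinearMap.range (P.d (a - 1) a).hom)) ≃ₗ[R]
        (P.X a ⧸ LinearMap.range (P.d (a - 1) a).hom) :=
      { toFun := fun x => x
        map_add' := fun _ _ => rfl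
        map_smul' := fun r x => by
          obtain ⟨y, rfl⟩ := Submodule.Quotient.mk_surjective _ x
          rfl
        invFun := fun x => x
        left_inv := fun _ => rfl
        right_inv := fun _ => rfl }
    haveI := hflat
    exact Module.Flat.of_linearEquiv (((rsM R A).mapIso eop).toLinearEquiv.trans l)

end Groth.Agent.RelPerfFibres
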